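import Groth.Agent.ParaFormal.Elkik.Approx
import Groth.Agent.Hens.Pair
import Groth.Agent.HenGeomInt.PairNoeth
import Mathlib.RingTheory.Kaehler.Basic
import Mathlib.RingTheory.Kaehler.TensorProduct
import Mathlib.RingTheory.AdicCompletion.Noetherian
import Mathlib.RingTheory.Filtration

/-!
Maps into henselian pairs from algebras which are etale away from the ideal: approximation and rigidity.
-/

set_option autoImplicit false
set_option linter.style.haveILetI false
set_option linter.unusedSectionVars false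
set_option maxHeartbeats 800000

noncomputable section

universe u

open TensorProduct

namespace Groth.Agent.ParaFormal.RigLift

open Groth.Agent.ParaFormal.Elkik

/-- A power of `a` kills the differentials. -/
theorem exists_pow_kills {A B : Type u} [CommRing A] [CommRing B] [Algebra A B] [Algebra.FiniteType A B]
    (a : A) (h : Algebra.Etale A (Localization.Away (algebraMap A B a))) :
    ∃ s : ℕ, ∀ ω : Ω[B⁄A], algebraMap A B a ^ s • ω = 0 := by
  classical
  haveI : Subsingleton Ω[Localization.Away (algebraMap A B a)⁄A] := inferInstance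
  haveI := KaehlerDifferential.isLocalizedModule_map A B (Localization.Away (algebraMap A B a))
    (Submonoid.powers (algebraMap A B a))
  have h1 : ∀ ω : Ω[B⁄A], ∃ s : ℕ, algebraMap A B a ^ s • ω = 0 := fun ω => by
    obtain ⟨c, hc⟩ := IsLocalizedModule.exists_of_eq (S := Submonoid.powers (algebraMap A B a))
      (f := KaehlerDifferential.map A A B (Localization.Away (algebraMap A B a))) (x₁ := ω) (x₂ := 0)
      (Subsingleton.elim _ _)
    obtain ⟨s, hs⟩ := c.2
    refine ⟨s, ?_⟩
    rw [smul_zero] at hc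
    change (c : B) • ω = 0 at hc
    rwa [← hs] at hc
  obtain ⟨S, hS⟩ := (Module.Finite.fg_top : (⊤ : Submodule B Ω[B⁄A]).FG)
  choose s hs using fun ω : S => h1 ω.1
  refine ⟨Finset.univ.sup s, fun ω => ?_⟩
  have hω : ω ∈ Submodule.span B (S : Set Ω[B⁄A]) := hS ▸ Submodule.mem_top
  induction hω using Submodule.span_induction with
  | mem x hx =>
    obtain ⟨d, hd⟩ := Nat.exists_eq_add_of_le (Finset.le_sup (f := s) (Finset.mem_univ ⟨x, hx⟩))
    rw [hd, add_comm, pow_add, mul_smul, hs ⟨x, hx⟩, smul_zero]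
  | zero => exact smul_zero _
  | add x y _ _ hx hy => rw [smul_add, hx, hy, add_zero]
  | smul r x _ hx => rw [smul_comm, hx, smul_zero]

/-- Division by an ideal of definition, up to a bounded shift. -/
theorem exists_shift {R : Type u} [CommRing R] [IsNoetherianRing R] (J : Ideal R) {r : ℕ} (α : Fin r → R)
    (hα : J ≤ (Ideal.span (Set.range α)).radical) :
    ∃ m₀ : ℕ, ∀ m, m₀ ≤ m → ∀ x ∈ J ^ m, (∀ i, α i * x ∈ J ^ (m + m)) → x ∈ J ^ (m + 1) := by
  obtain ⟨h, hh⟩ := Ideal.exists_pow_le_of_le_radical_of_fg hα (IsNoetherian.noetherian J)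
  let Λ : R →ₗ[R] (Fin r → R) := LinearMap.pi fun i => LinearMap.mulLeft R (α i)
  obtain ⟨c, hc⟩ := Ideal.exists_pow_inf_eq_pow_smul J (LinearMap.range Λ)
  obtain ⟨k, hk⟩ := Ideal.exists_pow_inf_eq_pow_smul J (LinearMap.ker Λ)
  refine ⟨c + k + h + 1, fun m hm x hx hαx => ?_⟩
  have h1 : Λ x ∈ J ^ (m + m) • (⊤ : Submodule R (Fin r → R)) := by
    classical
    rw [pi_eq_sum_univ (Λ x)]
    refine Submodule.sum_mem _ fun i _ => Submodule.smul_mem_smul (hαx i) Submodule.mem_top
  have h2 : Λ x ∈ J ^ (m + m) • (⊤ : Submodule R (Fin r → R)) ⊓ LinearMap.range Λ := ⟨h1, ⟨x, rfl⟩⟩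
  rw [hc (m + m) (by omega)] at h2
  have h3 := Submodule.smul_mono (le_refl (J ^ (m + m - c))) (inf_le_right : J ^ c • (⊤ : Submodule R (Fin r → R)) ⊓ LinearMap.range Λ ≤ _) h2
  rw [LinearMap.range_eq_map, ← Submodule.map_smul''] at h3
  obtain ⟨y, hy, hxy⟩ := h3
  have hy' : y ∈ J ^ (m + 1) := by
    rw [SetLike.mem_coe, smul_eq_mul, Ideal.mul_top] at hy
    exact Ideal.pow_le_pow_right (by omega) hy
  have h4 : x - y ∈ J ^ m • (⊤ : Submodule R R) ⊓ LinearMap.ker Λ := by
    refine ⟨?_, by rw [SetLike.mem_coe, LinearMap.mem_ker, map_sub, hxy, sub_self]⟩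
    rw [SetLike.mem_coe, smul_eq_mul, Ideal.mul_top]
    exact Ideal.sub_mem _ hx (Ideal.pow_le_pow_right (Nat.le_succ m) hy')
  rw [hk m (by omega)] at h4
  have h5 : x - y ∈ J ^ (m - k) * (LinearMap.ker Λ : Ideal R) := by
    have := Submodule.smul_mono (le_refl (J ^ (m - k))) (inf_le_right : J ^ k • (⊤ : Submodule R R) ⊓ LinearMap.ker Λ ≤ _) h4
    rwa [smul_eq_mul] at this
  have h6 : J ^ (m - k) * (LinearMap.ker Λ : Ideal R) = ⊥ := by
    rw [eq_bot_iff]
    refine (Ideal.mul_mono_left ((Ideal.pow_le_pow_right (by omega : h ≤ m - k)).trans hh)).trans ?_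
    rw [Ideal.mul_le]
    intro a ha t ht
    rw [Ideal.mem_bot]
    induction ha using Submodule.span_induction with
    | mem a ha =>
      obtain ⟨i, rfl⟩ := ha
      exact congrFun (LinearMap.mem_ker.1 ht) i
    | zero => exact zero_mul _
    | add a b _ _ ha hb => rw [add_mul, ha, hb, add_zero]
    | smul q a _ ha => rw [smul_eq_mul, mul_assoc, ha, mul_zero]
  rw [h6, Ideal.mem_bot, sub_eq_zero] at h5
  rwa [h5]

/-- Rigidity: two maps which agree to high order are equal. -/
theorem exists_rigid {A B H : Type u} [CommRing A] [IsNoetherianRing A] [CommRing B] [Algebra A B]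
    [Algebra.FiniteType A B] [CommRing H] [IsNoetherianRing H] [Algebra A H] (I : Ideal A)
    (hB : ∀ a ∈ I, Algebra.Etale A (Localization.Away (algebraMap A B a)))
    (hjac : I.map (algebraMap A H) ≤ Ideal.jacobson ⊥) :
    ∃ m₀ : ℕ, ∀ ψ ψ' : B →ₐ[A] H, (∀ b, ψ b - ψ' b ∈ (I.map (algebraMap A H)) ^ m₀) → ψ = ψ' := by
  classical
  let J := I.map (algebraMap A H)
  obtain ⟨r, a, ha⟩ := Submodule.fg_iff_exists_fin_generating_family.1 (IsNoetherian.noetherian I)
  have hmem : ∀ i, a i ∈ I := fun i => ha ▸ Submodule.subset_span ⟨i, rfl⟩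
  choose s hs using fun i => exists_pow_kills (B := B) (a i) (hB _ (hmem i))
  let α : Fin r → H := fun i => algebraMap A H (a i) ^ s i
  have hα : J ≤ (Ideal.span (Set.range α)).radical := by
    show I.map (algebraMap A H) ≤ _
    rw [← ha, Ideal.submodule_span_eq, Ideal.map_span, Ideal.span_le]
    rintro _ ⟨_, ⟨i, rfl⟩, rfl⟩
    exact ⟨s i, Ideal.subset_span ⟨i, rfl⟩⟩
  obtain ⟨m₀, hm₀⟩ := exists_shift J α hα
  refine ⟨m₀, fun ψ ψ' h => ?_⟩
  have step : ∀ m, m₀ ≤ m → ∀ b, ψ b - ψ' b ∈ J ^ m := by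
    intro m hm
    induction m, hm using Nat.le_induction with
    | base => exact h
    | succ m hm ih =>
      intro b
      refine hm₀ m hm _ (ih b) fun i => ?_
      let q := Ideal.Quotient.mk (J ^ (m + m))
      letI : Algebra B (H ⧸ J ^ (m + m)) := (q.comp ψ'.toRingHom).toAlgebra
      haveI : IsScalarTower A B (H ⧸ J ^ (m + m)) := IsScalarTower.of_algebraMap_eq fun x => by
        show _ = q (ψ' (algebraMap A B x))
        rw [ψ'.commutes]
        rfl
      let D : Derivation A B (H ⧸ J ^ (m + m)) :=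
        Derivation.mk'
          { toFun := fun x => q (ψ x - ψ' x)
            map_add' := fun x y => by simp only [map_add, map_sub]; ring
            map_smul' := fun c x => by
              rw [RingHom.id_apply, map_smul, map_smul, ← smul_sub]
              rfl }
          fun x y => by
            show q (ψ (x * y) - ψ' (x * y)) = q (ψ' x) * q (ψ y - ψ' y) + q (ψ' y) * q (ψ x - ψ' x)
            rw [← map_mul, ← map_mul, ← map_add, Ideal.Quotient.eq]
            have : ψ (x * y) - ψ' (x * y) - (ψ' x * (ψ y - ψ' y) + ψ' y * (ψ x - ψ' x)) =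
                (ψ x - ψ' x) * (ψ y - ψ' y) := by rw [map_mul, map_mul]; ring
            rw [this, pow_add]
            exact Ideal.mul_mem_mul (ih x) (ih y)
      have h0 : algebraMap A B (a i) ^ s i • D b = 0 := by
        rw [← D.liftKaehlerDifferential_comp_D b, ← map_smul, hs, map_zero]
      change q (ψ' (algebraMap A B (a i) ^ s i)) * q (ψ b - ψ' b) = 0 at h0
      rw [map_pow ψ', ψ'.commutes, ← map_mul, Ideal.Quotient.eq_zero_iff_mem] at h0
      exact h0
  haveI : IsHausdorff J H := IsHausdorff.of_le_jacobson _ _ hjac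
  refine AlgHom.ext fun b => sub_eq_zero.1 (IsHausdorff.haus ‹_› _ fun n => ?_)
  rw [SModEq.zero, smul_eq_mul, Ideal.mul_top]
  exact Ideal.pow_le_pow_right (le_max_left n m₀) (step _ (le_max_right _ _) b)

/-- Approximation of truncated maps. -/
theorem exists_approx_map {A B C H : Type u} [CommRing A] [IsNoetherianRing A] [CommRing B] [Algebra A B]
    [Algebra.FiniteType A B] [CommRing C] [IsNoetherianRing C] [Algebra A C] [CommRing H] [Algebra C H]
    [Algebra A H] [IsScalarTower A C H] [Module.Flat C H] (I : Ideal A)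
    (hB : ∀ a ∈ I, Algebra.Etale A (Localization.Away (algebraMap A B a)))
    [HenselianRing H (I.map (algebraMap A H))] (n : ℕ) :
    ∃ L, n ≤ L ∧ ∀ σ : B →ₐ[A] H ⧸ (I.map (algebraMap A H)) ^ L, ∃ τ : B →ₐ[A] H,
      ∀ b x, Ideal.Quotient.mk _ x = σ b → τ b - x ∈ (I.map (algebraMap A H)) ^ n := by
  classical
  haveI : Algebra.FinitePresentation A B := Algebra.FinitePresentation.of_finiteType.1 inferInstance
  obtain ⟨s, hs⟩ := IsNoetherian.noetherian I
  let l : List C := s.toList.map (algebraMap A C)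
  have hl : (Ideal.ofList l).map (algebraMap C H) = I.map (algebraMap A H) := by
    rw [IsScalarTower.algebraMap_eq A C H, ← Ideal.map_map]
    congr 1
    rw [← hs, Ideal.submodule_span_eq, Ideal.map_span, Ideal.ofList]
    congr 1
    ext; simp [l]
  obtain ⟨L, hL, h⟩ := exists_approx_list (boundedTorsion_of_flat C H) (H ⊗[A] B) l
    (by rw [hl]; infer_instance)
    (fun x hx R _ _ N hN hu g => by
      obtain ⟨a, ha, rfl⟩ := List.mem_map.1 hx
      rw [Finset.mem_toList] at ha
      have haI : a ∈ I := hs ▸ Submodule.subset_span ha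
      haveI := hB a haI
      letI : Algebra A R := ((algebraMap H R).comp (algebraMap A H)).toAlgebra
      haveI : IsScalarTower A H R := IsScalarTower.of_algebraMap_eq fun _ => rfl
      let gB : B →ₐ[A] R ⧸ N := (g.restrictScalars A).comp Algebra.TensorProduct.includeRight
      have hgu : IsUnit (gB (algebraMap A B a)) := by
        rw [AlgHom.commutes, IsScalarTower.algebraMap_apply A R (R ⧸ N)]
        refine IsUnit.map _ ?_
        show IsUnit (algebraMap H R (algebraMap A H a))
        rwa [IsScalarTower.algebraMap_apply A C H]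
      let ga : Localization.Away (algebraMap A B a) →ₐ[A] R ⧸ N :=
        IsLocalization.liftAlgHom (M := Submonoid.powers (algebraMap A B a)) (f := gB) fun y => by
          obtain ⟨k, hk⟩ := y.2
          rw [← hk]
          show IsUnit (gB _)
          rw [map_pow]
          exact hgu.pow k
      obtain ⟨g', hg'⟩ := Algebra.FormallySmooth.comp_surjective A (Localization.Away (algebraMap A B a)) N hN ga
      refine ⟨Algebra.TensorProduct.lift (Algebra.ofId H R) (g'.comp (IsScalarTower.toAlgHom A B _))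
        fun _ _ => Commute.all _ _, ?_⟩
      refine Algebra.TensorProduct.ext' fun x b => ?_
      have h2 : Ideal.Quotient.mk N (g' (algebraMap B _ b)) = g ((1 : H) ⊗ₜ[A] b) :=
        (AlgHom.congr_fun hg' _).trans (IsLocalization.lift_eq _ b)
      rw [AlgHom.comp_apply, Algebra.TensorProduct.lift_tmul, map_mul]
      change Ideal.Quotient.mk N (algebraMap H R x) * Ideal.Quotient.mk N (g' (algebraMap B _ b)) = _
      rw [h2, show x ⊗ₜ[A] b = x • ((1 : H) ⊗ₜ[A] b) by rw [TensorProduct.smul_tmul', smul_eq_mul, mul_one],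
        map_smul, Algebra.smul_def]
      rfl) ⊥ n
  rw [hl] at h
  have hbot : (⊥ : Ideal C).map (algebraMap C H) = ⊥ := Ideal.map_bot
  have e1 : (I.map (algebraMap A H)) ^ L ≤ (⊥ : Ideal C).map (algebraMap C H) ⊔ (I.map (algebraMap A H)) ^ L :=
    le_sup_right
  refine ⟨L, hL, fun σ => ?_⟩
  obtain ⟨τ, hτ⟩ := h ((Ideal.Quotient.factorₐ H e1).comp
    (Algebra.TensorProduct.lift (Algebra.ofId H _) σ fun _ _ => Commute.all _ _))
  let e : (H ⧸ (⊥ : Ideal C).map (algebraMap C H)) →ₐ[H] H :=
    Ideal.Quotient.liftₐ _ (AlgHom.id H H) (by simp [hbot])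
  refine ⟨((e.comp τ).restrictScalars A).comp Algebra.TensorProduct.includeRight, fun b x hx => ?_⟩
  obtain ⟨b', hb', hb'b⟩ := hτ ((1 : H) ⊗ₜ[A] b) x (by
    rw [AlgHom.comp_apply, Algebra.TensorProduct.lift_tmul, map_one, one_mul, ← hx]
    rfl)
  rw [hbot, bot_sup_eq] at hb'b
  show e (τ ((1 : H) ⊗ₜ[A] b)) - x ∈ _
  rw [← hb']
  exact hb'b

end Groth.Agent.ParaFormal.RigLift
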